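import Cfsg.Agent.H578.Base3
import Cfsg.Agent.H527.RC.Stmts

/-!
# S4191, SOB: orders of solvable linear groups without normal subgroups in the characteristic (helper120)
-/

set_option autoImplicit false

namespace Cfsg.Agent.H120.RC

open Cfsg.Agent.H527.RC

universe u w

section

variable {G : Type w} [Group G] {X : Type u} [AddCommGroup X]

/-- restriction to an invariant subgroup -/
def resHom (φ : G →* AddMonoid.End X) (U : AddSubgroup X) (hU : ∀ g : G, ∀ x ∈ U, φ g x ∈ U) :
    G →* AddMonoid.End U where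
  toFun g := ((φ g : X →+ X).comp U.subtype).codRestrict U (fun x => hU g x x.2)
  map_one' := by
    ext x
    show φ 1 (x : X) = (x : X)
    rw [map_one]
    rfl
  map_mul' a b := by
    ext x
    show φ (a * b) (x : X) = φ a (φ b (x : X))
    rw [map_mul]
    rfl

/-- the action on the quotient by an invariant subgroup -/
def quoHom (φ : G →* AddMonoid.End X) (U : AddSubgroup X) (hU : ∀ g : G, ∀ x ∈ U, φ g x ∈ U) :
    G →* AddMonoid.End (X ⧸ U) where
  toFun g := QuotientAddGroup.map U U (φ g : X →+ X) (fun x hx => hU g x hx)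
  map_one' := by
    refine AddMonoidHom.ext fun x => ?_
    obtain ⟨x, rfl⟩ := QuotientAddGroup.mk_surjective x
    show ((φ 1 x : X) : X ⧸ U) = ((x : X) : X ⧸ U)
    rw [map_one]
    rfl
  map_mul' a b := by
    refine AddMonoidHom.ext fun x => ?_
    obtain ⟨x, rfl⟩ := QuotientAddGroup.mk_surjective x
    show ((φ (a * b) x : X) : X ⧸ U) = ((φ a (φ b x) : X) : X ⧸ U)
    rw [map_mul]
    rfl

theorem resHom_apply (φ : G →* AddMonoid.End X) (U : AddSubgroup X) (hU : ∀ g : G, ∀ x ∈ U, φ g x ∈ U) (g : G)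
    (x : U) : ((resHom φ U hU g x : U) : X) = φ g x := rfl

theorem quoHom_apply (φ : G →* AddMonoid.End X) (U : AddSubgroup X) (hU : ∀ g : G, ∀ x ∈ U, φ g x ∈ U) (g : G)
    (x : X) : quoHom φ U hU g (x : X ⧸ U) = ((φ g x : X) : X ⧸ U) := rfl

/-- an irreducible module -/
theorem irr [Finite G] [Finite X] (hG : Group.IsSolvable G) (φ : G →* AddMonoid.End X)
    (hirr : ∀ U : AddSubgroup X, (∀ g : G, ∀ x ∈ U, φ g x ∈ U) → U = ⊥ ∨ U = ⊤) :
    φ.ker.index ≤ Nat.card X ^ 3 := by
  set ψ := φ.toHomUnits with hψ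
  have hval : ∀ g : G, ((ψ g : (AddMonoid.End X)ˣ) : AddMonoid.End X) = φ g := fun g => rfl
  have hker : φ.ker = ψ.ker := by
    ext g
    rw [MonoidHom.mem_ker, MonoidHom.mem_ker, ← Units.val_inj, hval, Units.val_one]
  rw [hker, Subgroup.index_ker]
  have hsm : ∀ (a : ψ.range) (x : X), a • x = ((a : (AddMonoid.End X)ˣ) : AddMonoid.End X) x := fun a x => rfl
  have hfin : Finite ψ.range := Set.finite_range ψ
  have hfs : FaithfulSMul ψ.range X := by
    refine ⟨fun {a b} h => ?_⟩
    apply Subtype.ext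
    apply Units.ext
    exact AddMonoidHom.ext fun x => h x
  have hsol : Group.IsSolvable ψ.range := Group.isSolvable_of_surjective (f := ψ.rangeRestrict)
    ψ.rangeRestrict_surjective
  obtain ⟨v₁, v₂, v₃, hv⟩ := Cfsg.Agent.H578.base3 (A := ψ.range) (V := X) hsol (by
    intro U hU
    rcases hirr U (fun g x hx => hU ⟨ψ g, g, rfl⟩ x hx) with rfl | rfl
    · exact ⟨⊤, fun _ _ _ => trivial, by simp, by simp⟩
    · exact ⟨⊥, fun a x hx => by
        rw [AddSubgroup.mem_bot] at hx ⊢
        rw [hx, smul_zero], by simp, by simp⟩)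
  have hinj : Function.Injective (fun a : ψ.range => (a • v₁, a • v₂, a • v₃)) := by
    intro a b hab
    simp only [Prod.mk.injEq] at hab
    have h1 := hv (b⁻¹ * a) (by rw [mul_smul, hab.1, inv_smul_smul]) (by rw [mul_smul, hab.2.1, inv_smul_smul])
      (by rw [mul_smul, hab.2.2, inv_smul_smul])
    exact (inv_mul_eq_one.1 h1).symm
  refine (Nat.card_le_card_of_injective _ hinj).trans (le_of_eq ?_)
  rw [Nat.card_prod, Nat.card_prod]
  ring

/-- a normal subgroup of small index all of whose elements act as `q`-elements -/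
theorem claim {q : ℕ} (hG : Group.IsSolvable G) [Finite G] : ∀ (n : ℕ) (X : Type u) [AddCommGroup X] [Finite X]
    (φ : G →* AddMonoid.End X), (∀ x : X, q • x = 0) → Nat.card X = n →
    ∃ N : Subgroup G, N.Normal ∧ N.index ≤ Nat.card X ^ 3 ∧ ∀ g ∈ N, ∃ k : ℕ, ∀ x : X, φ (g ^ q ^ k) x = x := by
  intro n
  induction n using Nat.strong_induction_on with
  | _ n ih =>
    intro X _ _ φ hq hn
    by_cases hirr : ∀ U : AddSubgroup X, (∀ g : G, ∀ x ∈ U, φ g x ∈ U) → U = ⊥ ∨ U = ⊤
    · refine ⟨φ.ker, inferInstance, irr hG φ hirr, fun g hg => ⟨0, fun x => ?_⟩⟩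
      rw [pow_zero, pow_one, MonoidHom.mem_ker.1 hg]
      rfl
    push Not at hirr
    obtain ⟨U, hU, hU0, hU1⟩ := hirr
    have hcard : Nat.card X = Nat.card (X ⧸ U) * Nat.card U := AddSubgroup.card_eq_card_quotient_mul_card_addSubgroup U
    have h1 : 1 < Nat.card U := by
      rw [Finite.one_lt_card_iff_nontrivial]
      exact (AddSubgroup.nontrivial_iff_ne_bot U).2 hU0
    have h2 : 1 < Nat.card (X ⧸ U) := by
      have h3 : U.index ≠ 1 := fun h => hU1 (AddSubgroup.index_eq_one.1 h)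
      have h4 : 0 < Nat.card (X ⧸ U) := Nat.card_pos
      have h5 : U.index = Nat.card (X ⧸ U) := rfl
      omega
    obtain ⟨N₁, hN₁, hi₁, hk₁⟩ := ih (Nat.card U) (by rw [← hn, hcard]; nlinarith) U (resHom φ U hU)
      (fun x => Subtype.ext (hq x)) rfl
    obtain ⟨N₂, hN₂, hi₂, hk₂⟩ := ih (Nat.card (X ⧸ U)) (by rw [← hn, hcard]; nlinarith) (X ⧸ U) (quoHom φ U hU)
      (fun x => by
        obtain ⟨x, rfl⟩ := QuotientAddGroup.mk_surjective x
        have h := congrArg (fun y : X => (y : X ⧸ U)) (hq x)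
        simpa using h) rfl
    refine ⟨N₁ ⊓ N₂, inferInstance, ?_, ?_⟩
    · refine Subgroup.index_inf_le.trans ?_
      rw [hcard, mul_pow, mul_comm (Nat.card (X ⧸ U) ^ 3)]
      exact Nat.mul_le_mul hi₁ hi₂
    · intro g hg
      obtain ⟨k₁, h₁⟩ := hk₁ g hg.1
      obtain ⟨k₂, h₂⟩ := hk₂ g hg.2
      have hpow : ∀ (Y : Type u) [AddCommGroup Y] (ψ : G →* AddMonoid.End Y) (a : G), (∀ y : Y, ψ a y = y) →
          ∀ (j : ℕ) (y : Y), ψ (a ^ j) y = y := by
        intro Y _ ψ a ha j
        induction j with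
        | zero => intro y; rw [pow_zero, map_one]; rfl
        | succ j ih =>
          intro y
          rw [pow_succ, map_mul]
          show ψ (a ^ j) (ψ a y) = y
          rw [ha, ih]
      set h := g ^ q ^ (k₁ + k₂) with hh
      have e₁ : ∀ x : U, φ h (x : X) = x := by
        intro x
        have h3 := hpow U (resHom φ U hU) _ h₁ (q ^ k₂) x
        rw [← pow_mul, ← pow_add] at h3
        exact congrArg Subtype.val h3
      have e₂ : ∀ x : X, φ h x - x ∈ U := by
        intro x
        have h3 := hpow (X ⧸ U) (quoHom φ U hU) _ h₂ (q ^ k₁) (x : X ⧸ U)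
        rw [← pow_mul, ← pow_add, add_comm k₂, quoHom_apply] at h3
        have h4 := QuotientAddGroup.eq.1 h3.symm
        rwa [neg_add_eq_sub] at h4
      refine ⟨k₁ + k₂ + 1, fun x => ?_⟩
      have e₃ : ∀ j : ℕ, φ (h ^ j) x = x + j • (φ h x - x) := by
        intro j
        induction j with
        | zero => rw [pow_zero, map_one, zero_smul, add_zero]; rfl
        | succ j ih =>
          rw [pow_succ', map_mul]
          show φ h (φ (h ^ j) x) = _
          rw [ih, map_add, map_nsmul, e₁ ⟨_, e₂ x⟩, succ_nsmul]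
          abel
      rw [pow_succ, pow_mul, ← hh, e₃, hq, add_zero]

end

/-- **SOB** -/
theorem sob : SOB.{u} := by
  intro q hq G X _ _ hG _ _ _ hqX hf hO
  obtain ⟨N, hN, hi, hk⟩ := claim (q := q) hG (Nat.card X) X
    ((DistribMulAction.toAddMonoidEnd G X)) hqX rfl
  have hNp : IsPGroup q N := by
    intro g
    obtain ⟨k, hk⟩ := hk g g.2
    refine ⟨k, Subtype.ext ?_⟩
    exact hf _ hk
  have hN1 := hO N hN hNp
  rw [hN1, Subgroup.index_bot] at hi
  exact hi

end Cfsg.Agent.H120.RC
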