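import Cfsg.Agent.H822.Cls.RelIx
import Cfsg.Agent.H120.RC.Sob

/-!
# S4191, ORDP: orders of primitive solvable linear groups (helper120)

* `relIndex_cent_le` : `|C(A) : S| ≤ e ^ 6`;
* `card_range_le_log` : `|Gal| ≤ log_2 |F|`;
* `card_le` : `|L| ≤ |Gal| (|F| - 1) e ^ 8`.
-/

set_option autoImplicit false
set_option linter.unusedSectionVars false

namespace Cfsg.Agent.H120.RC

open scoped Pointwise commutatorElement
open Cfsg.Agent.H822.Cls Cfsg.Agent.H308.ClsNum

universe u w v

section

variable {L : Type u} {U : Type v} {F : Type w} [Group L] [Finite L] [AddCommGroup U] [Finite U] [Nontrivial U]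
  [DistribMulAction L U] [Field F] [Finite F] [Module F U] (D : Prim L U F)

theorem conjX_one (y : D.S ⧸ D.A.subgroupOf D.S) : conjX D 1 y = y := by
  obtain ⟨s, rfl⟩ := QuotientGroup.mk_surjective y
  exact conjX_mk D 1 s s (by group)

theorem conjX_mul (a b : L) (y : D.S ⧸ D.A.subgroupOf D.S) : conjX D (a * b) y = conjX D a (conjX D b y) := by
  obtain ⟨s, rfl⟩ := QuotientGroup.mk_surjective y
  have hb : b * s * b⁻¹ ∈ D.S := D.S_normal.conj_mem s s.2 b
  have hab : a * (b * s * b⁻¹) * a⁻¹ ∈ D.S := D.S_normal.conj_mem _ hb a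
  rw [conjX_mk D b s ⟨_, hb⟩ rfl, conjX_mk D a ⟨_, hb⟩ ⟨_, hab⟩ rfl]
  exact conjX_mk D (a * b) s ⟨_, hab⟩ (by
    show a * (b * s * b⁻¹) * a⁻¹ = a * b * s * (a * b)⁻¹
    group)

/-- the action of `L` on the `q`-part of `S / A` -/
noncomputable def actK (q : ℕ) : L →* AddMonoid.End (Additive (K D q)) where
  toFun x := MonoidHom.toAdditive (conjK D q x)
  map_one' := by
    refine AddMonoidHom.ext fun y => ?_
    exact congrArg Additive.ofMul (Subtype.ext (conjX_one D (y.toMul : K D q)))
  map_mul' a b := by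
    refine AddMonoidHom.ext fun y => ?_
    exact congrArg Additive.ofMul (Subtype.ext (conjX_mul D a b (y.toMul : K D q)))

/-- a normal subgroup of index at most `|X_q| ^ 3` acting trivially on the `q`-part -/
theorem exists_triv [Group.IsSolvable L] {q : ℕ} (hq : q.Prime) :
    ∃ N : Subgroup L, N.Normal ∧ N.index ≤ Nat.card (K D q) ^ 3 ∧ ∀ x ∈ N, D.Triv q x := by
  obtain ⟨N, hN, hi, hk⟩ := claim (q := q) (G := L) inferInstance (Nat.card (Additive (K D q))) (Additive (K D q))
    (actK D q) (fun x => by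
      refine congrArg Additive.ofMul (Subtype.ext ?_ : (x.toMul : K D q) ^ q = 1)
      exact x.toMul.2) rfl
  refine ⟨N, hN, hi, ?_⟩
  refine D.ss q hq N hN fun x hx => ?_
  obtain ⟨k, hk⟩ := hk x hx
  refine ⟨k, fun s hs hsq => ?_⟩
  have h1 : conjK D q (x ^ q ^ k) = conjK D q 1 := by
    refine MonoidHom.ext fun y => ?_
    have h2 := congrArg Additive.toMul (hk (Additive.ofMul y))
    have h3 : conjK D q (x ^ q ^ k) y = y := h2
    rw [h3]
    exact (Subtype.ext (conjX_one D (y : D.S ⧸ D.A.subgroupOf D.S))).symm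
  have h2 := conjK_eq D h1 hs hsq
  rwa [inv_one, one_mul] at h2

theorem card_K_eq {Q : Finset ℕ} {m : ℕ → ℕ} (hN : D.Num Q m) {q : ℕ} (hq : q ∈ Q) :
    Nat.card (K D q) = q ^ (2 * m q) := by
  rw [← relIndex_W]
  exact hN.card_part q hq _ fun s => mem_W D

/-- `|C(A) : S| ≤ e ^ 6` -/
theorem relIndex_cent_le [Group.IsSolvable L] {Q : Finset ℕ} {m : ℕ → ℕ} (hN : D.Num Q m) :
    D.S.relIndex (Subgroup.centralizer (D.A : Set L)) ≤ (∏ q ∈ Q, q ^ m q) ^ 6 := by
  classical
  have hex : ∀ q : Q, ∃ N : Subgroup L, N.Normal ∧ N.index ≤ Nat.card (K D (q : ℕ)) ^ 3 ∧ ∀ x ∈ N, D.Triv (q : ℕ) x :=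
    fun q => exists_triv D (hN.prime q q.2)
  choose N hNn hNi hNt using hex
  set C := Subgroup.centralizer (D.A : Set L)
  have h1 : (⨅ q : Q, N q) ⊓ C ≤ D.S := by
    intro c hc
    refine mem_of_triv D hN hc.2 fun q hq => ?_
    exact hNt ⟨q, hq⟩ c ((Subgroup.mem_iInf.1 hc.1) ⟨q, hq⟩)
  have h2 : D.S.relIndex C ≤ ((⨅ q : Q, N q) ⊓ C).relIndex C :=
    Subgroup.relIndex_le_of_le_left h1 (by
      rw [Subgroup.relIndex]
      exact Subgroup.FiniteIndex.index_ne_zero)
  rw [Subgroup.inf_relIndex_right] at h2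
  have h3 : (⨅ q : Q, N q).relIndex C ≤ (⨅ q : Q, N q).index := by
    rw [← Subgroup.relIndex_top_right]
    exact Subgroup.relIndex_le_of_le_right le_top (by
      rw [Subgroup.relIndex]
      exact Subgroup.FiniteIndex.index_ne_zero)
  refine (h2.trans h3).trans ((Subgroup.index_iInf_le N).trans ?_)
  rw [← Finset.prod_pow, ← Finset.prod_coe_sort Q (fun q => (q ^ m q) ^ 6)]
  refine Finset.prod_le_prod' fun q _ => ?_
  refine (hNi q).trans (le_of_eq ?_)
  rw [card_K_eq D hN q.2, ← pow_mul, ← pow_mul]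
  congr 1
  ring

theorem card_A_le : Nat.card D.A ≤ Nat.card F - 1 := by
  rw [← Nat.card_units]
  exact Nat.card_le_card_of_injective D.ι D.ι_inj

theorem index_cent : (Subgroup.centralizer (D.A : Set L)).index = Nat.card D.σ.range := by
  rw [← D.σ_ker, Subgroup.index_ker]

theorem card_eq : Nat.card L = Nat.card D.σ.range * D.S.relIndex (Subgroup.centralizer (D.A : Set L)) *
    D.A.relIndex D.S * Nat.card D.A := by
  rw [← index_cent, ← Subgroup.relIndex_bot_left D.A, mul_comm _ (D.S.relIndex _), Subgroup.relIndex_mul_index D.S_le,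
    mul_comm D.S.index, Subgroup.relIndex_mul_index D.A_le, mul_comm D.A.index, Subgroup.relIndex_mul_index bot_le,
    Subgroup.index_bot]

/-- `|L| ≤ |Gal| (|F| - 1) e ^ 8` -/
theorem card_le [Group.IsSolvable L] {Q : Finset ℕ} {m : ℕ → ℕ} (hN : D.Num Q m) :
    Nat.card L ≤ Nat.card D.σ.range * (Nat.card F - 1) * (∏ q ∈ Q, q ^ m q) ^ 8 := by
  rw [card_eq D, hN.relIndex]
  calc Nat.card D.σ.range * D.S.relIndex (Subgroup.centralizer (D.A : Set L)) * (∏ q ∈ Q, q ^ m q) ^ 2 *
        Nat.card D.A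
      ≤ Nat.card D.σ.range * (∏ q ∈ Q, q ^ m q) ^ 6 * (∏ q ∈ Q, q ^ m q) ^ 2 * (Nat.card F - 1) := by
        gcongr
        · exact relIndex_cent_le D hN
        · exact card_A_le D
    _ = Nat.card D.σ.range * (Nat.card F - 1) * (∏ q ∈ Q, q ^ m q) ^ 8 := by ring

end

/-- the automorphism group of a finite field of order `p ^ f` has order at most `f` -/
theorem card_ringEquiv_le (F : Type*) [Field F] [Finite F] {p f : ℕ} (hp : p.Prime) (hF : Nat.card F = p ^ f) :
    Nat.card (F ≃+* F) ≤ f := by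
  have : Fact p.Prime := ⟨hp⟩
  have : Fintype F := Fintype.ofFinite F
  have hf : 0 < f := by
    rcases Nat.eq_zero_or_pos f with h | h
    · rw [h, pow_zero] at hF
      have := Finite.one_lt_card (α := F)
      omega
    · exact h
  have hchar : CharP F p := by
    have := charP_of_card_eq_prime_pow (R := F) (f := f) (by rw [← Nat.card_eq_fintype_card]; exact hF)
    exact this
  let _ : Algebra (ZMod p) F := ZMod.algebra F p
  let e : (F ≃+* F) → Gal(F/ZMod p) := fun τ => AlgEquiv.ofRingEquiv (f := τ) (by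
    intro x
    have h1 : (τ : F →+* F).comp (algebraMap (ZMod p) F) = algebraMap (ZMod p) F := RingHom.ext_zmod _ _
    exact RingHom.congr_fun h1 x)
  have he : Function.Injective e := by
    intro a b hab
    ext x
    exact DFunLike.congr_fun hab x
  have hfin : Module.finrank (ZMod p) F = f := by
    have h1 := Module.natCard_eq_pow_finrank (K := ZMod p) (V := F)
    rw [hF, Nat.card_zmod] at h1
    exact (Nat.pow_right_injective hp.two_le h1).symm
  refine (Nat.card_le_card_of_injective e he).trans ?_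
  rw [← hfin, Nat.card_eq_fintype_card]
  exact AlgEquiv.card_le

theorem card_range_le {L U F : Type*} [Group L] [AddCommGroup U] [DistribMulAction L U] [Field F] [Finite F]
    [Module F U] (D : Prim L U F) {p f : ℕ} (hp : p.Prime) (hF : Nat.card F = p ^ f) :
    Nat.card D.σ.range ≤ f := by
  have : Finite (F ≃+* F) := DFunLike.finite _
  exact (Nat.card_le_card_of_injective _ Subtype.val_injective).trans (card_ringEquiv_le F hp hF)

theorem card_range_le_log {L U F : Type*} [Group L] [AddCommGroup U] [DistribMulAction L U] [Field F] [Finite F]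
    [Module F U] (D : Prim L U F) : Nat.card D.σ.range ≤ Nat.log 2 (Nat.card F) := by
  have : Fintype F := Fintype.ofFinite F
  obtain ⟨p, _, f, hp, hF⟩ := FiniteField.card' F
  rw [← Nat.card_eq_fintype_card] at hF
  refine (card_range_le D hp hF).trans ?_
  rw [hF]
  exact Nat.le_log_of_pow_le one_lt_two (Nat.pow_le_pow_left hp.two_le _)

/-- `|L| ≤ log_2 |F| (|F| - 1) e ^ 8` -/
theorem card_le_log {L U F : Type*} [Group L] [Finite L] [Group.IsSolvable L] [AddCommGroup U] [Finite U]
    [Nontrivial U] [DistribMulAction L U] [Field F] [Finite F] [Module F U] (D : Prim L U F) {Q : Finset ℕ}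
    {m : ℕ → ℕ} (hN : D.Num Q m) :
    Nat.card L ≤ Nat.log 2 (Nat.card F) * (Nat.card F - 1) * (∏ q ∈ Q, q ^ m q) ^ 8 := by
  refine (card_le D hN).trans ?_
  gcongr
  exact card_range_le_log D

end Cfsg.Agent.H120.RC
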